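import Cfsg.Agent.BZ.Cov
import Cfsg.Agent.Blocks.FullDefect
import Cfsg.Agent.Blocks.ExistsModular
import Cfsg.Agent.Blocks.PPart
import Cfsg.Agent.H400.BlockDefect
import Cfsg.Agent.H700.PrinCrit
import Cfsg.Agent.Characters.GaloisIrr
import Cfsg.Agent.CharDeep.DegreeBound
import Cfsg.Agent.S0952
import Cfsg.Agent.S0953

/-!
# BZ tools: blocks of maximal defect of central extensions (helper82)

`σ : K → S` is onto with central kernel of order prime to `p` (`Ce`).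

* `Ov σ χ ψ` : the same central character on the kernel; `Top p M χ` : the block of `χ` has maximal defect;
* `Reg p d S`, `CP p S` : conditions on the centralisers of the `p`-regular elements of `S`;
* EXCL `Ce.max_of_rt`, `Ce.rt_of_reg`; UNIQ `Ce.same`; CRIT `Ce.top_of_crit`; Galois transport `gal`, `exists_gal`;
* LINK `same_of_link`; VAN `dvd_of_van`;
* `Hyp.mem_of_top`, `Hyp.not_XP`, `Hyp.not_XT`, `Hyp.not_XP_crit`, `Hyp.not_XT_crit`.
-/

set_option autoImplicit false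
set_option linter.unusedSectionVars false

namespace Cfsg.Agent.BZ

open Cfsg Subgroup Cfsg.Agent.Blocks.Local Cfsg.Agent.Blocks.Basic Cfsg.Agent.BHZ.Spor
open scoped ComplexConjugate

namespace T

/-- a central extension with a kernel of order prime to `p` -/
structure Ce (p : ℕ) {K S : Type} [Group K] [Group S] (σ : K →* S) : Prop where
  surj : Function.Surjective σ
  cen : σ.ker ≤ center K
  zp : ¬ p ∣ Nat.card σ.ker

/-- the same central character on the kernel -/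
def Ov {K S : Type} [Group K] [Group S] (σ : K →* S) (χ ψ : K → ℂ) : Prop := ∀ z ∈ σ.ker, χ z / χ 1 = ψ z / ψ 1

/-- the block of `χ` has maximal defect -/
def Top (p : ℕ) (M : Ideal AlgInt) {K : Type} [Group K] (χ : K → ℂ) : Prop :=
  ∃ ψ : IrrCharacter K, SameBlock M χ ψ ∧ ¬ p ∣ charDegree (ψ : K → ℂ)

/-- `p ^ d` does not divide the order of the centraliser of a `p`-regular element `≠ 1` -/
def Reg (p d : ℕ) (S : Type) [Group S] : Prop :=
  ∀ y : S, ¬ p ∣ orderOf y → y ≠ 1 → ¬ p ^ d ∣ Nat.card (centralizer ({y} : Set S))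

/-- no `p`-regular element `≠ 1` centralises a Sylow `p`-subgroup -/
def CP (p : ℕ) (S : Type) [Group S] : Prop := ∃ U : Subgroup S, IsPGroup p U ∧ RegTriv p U

variable {p : ℕ} [hp : Fact p.Prime] {M : Ideal AlgInt} {K S : Type} [Group K] [Finite K] [Group S] {σ : K →* S}
  {B : Set (IrrCharacter K)} {D : Subgroup K}

theorem Ov.symm {χ ψ : K → ℂ} (h : Ov σ χ ψ) : Ov σ ψ χ := fun z hz => (h z hz).symm

theorem Ov.trans {χ ψ φ : K → ℂ} (h : Ov σ χ ψ) (h' : Ov σ ψ φ) : Ov σ χ φ := fun z hz => (h z hz).trans (h' z hz)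

theorem Reg.mono {d e : ℕ} (h : Reg p d S) (hde : d ≤ e) : Reg p e S :=
  fun y h1 h2 h3 => h y h1 h2 ((pow_dvd_pow p hde).trans h3)

theorem Reg.of_equiv {d : ℕ} {S' : Type} [Group S'] (e : S ≃* S') (h : Reg p d S') : Reg p d S := fun y h1 h2 h3 => by
  refine h (e y) (by rwa [MulEquiv.orderOf_eq]) (fun h4 => h2 (e.map_eq_one_iff.1 h4)) (h3.trans ?_)
  refine card_dvd_of_injective ((e.toMonoidHom.comp (Subgroup.subtype _)).codRestrict _ fun c => ?_)
    fun a b h4 => Subtype.ext (e.injective (congrArg Subtype.val h4))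
  exact mem_centralizer_singleton_iff.2
    ((map_mul e _ _).symm.trans ((congrArg e (mem_centralizer_singleton_iff.1 c.2)).trans (map_mul e _ _)))

theorem Reg.rt {d : ℕ} (h : Reg p d S) {U : Subgroup S} (hU : p ^ d ∣ Nat.card U) : RegTriv p U := fun r h1 h2 => by
  by_contra h3
  exact h r h2 h3 (hU.trans (card_dvd_of_le fun u hu => mem_centralizer_singleton_iff.2 (h1 u hu)))

theorem Reg.cp [Finite S] {d : ℕ} (h : Reg p d S) (hd : p ^ d ∣ Nat.card S) : CP p S :=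
  let ⟨U, hU⟩ := Sylow.exists_subgroup_card_pow_prime p hd
  ⟨U, IsPGroup.of_card hU, h.rt hU.symm.dvd⟩

theorem cp_of_constr {y : S} (h : Constr p y) : CP p S := let ⟨U, h1, _, h2⟩ := h; ⟨U, h1, h2⟩

theorem cp_of_syl [Finite S] (h : ∀ P : Sylow p S, ∀ x ∈ centralizer ((P : Subgroup S) : Set S), ¬ p ∣ orderOf x → x = 1) :
    CP p S :=
  ⟨(default : Sylow p S), Sylow.isPGroup' _, fun r h1 h2 => h default r (mem_centralizer_iff.2 h1) h2⟩

theorem cp_of_le (P : Subgroup S) (hP : IsPGroup p P) (h : centralizer (P : Set S) ≤ P) : CP p S :=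
  ⟨P, hP, fun r h1 h2 => by
    obtain ⟨k, hk⟩ := hP ⟨r, h (mem_centralizer_iff.2 h1)⟩
    exact orderOf_eq_one_iff.1 (Nat.eq_one_of_dvd_coprimes ((hp.out.coprime_iff_not_dvd.2 h2).pow_left k)
      (orderOf_dvd_of_pow_eq_one (congrArg Subtype.val hk)) dvd_rfl)⟩

/-! ### central characters -/

theorem cen_mul {χ : K → ℂ} (hχ : IsIrrCharacter K χ) {z : K} (hz : z ∈ center K) (g : K) :
    χ (g * z) = χ z / χ 1 * χ g := by
  have := Fintype.ofFinite K
  obtain ⟨w, -, hw⟩ := CharDeep.DegreeBound.exists_omega hχ hz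
  have h1 := hw 1
  rw [one_mul] at h1
  rw [hw, h1, mul_div_assoc, div_self (irr_one_ne_zero hχ), mul_one]

theorem cen_pow {χ : K → ℂ} (hχ : IsIrrCharacter K χ) {z : K} (hz : z ∈ center K) (n : ℕ) :
    χ (z ^ n) / χ 1 = (χ z / χ 1) ^ n := by
  induction n with
  | zero => rw [pow_zero, pow_zero, div_self (irr_one_ne_zero hχ)]
  | succ n ih => rw [pow_succ, cen_mul hχ hz, mul_div_assoc, ih, pow_succ']

theorem cen_root {χ : K → ℂ} (hχ : IsIrrCharacter K χ) {z : K} (hz : z ∈ center K) : (χ z / χ 1) ^ orderOf z = 1 := by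
  rw [← cen_pow hχ hz, pow_orderOf_eq_one, div_self (irr_one_ne_zero hχ)]

theorem omega_cen (χ : K → ℂ) {z : K} (hz : z ∈ center K) : centralChar χ z = χ z / χ 1 := by
  rw [centralChar, (centralizer_eq_top_iff_subset (s := {z})).2 (Set.singleton_subset_iff.2 hz), index_top, Nat.cast_one,
    one_mul]

theorem Ce.reg (C : Ce p σ) {z : K} (hz : z ∈ σ.ker) : ¬ p ∣ orderOf z :=
  fun h => C.zp (h.trans (orderOf_dvd_natCard σ.ker hz))

/-- the members of a block have the same central character -/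
theorem Ce.ov (C : Ce p σ) (hM : IsPModular p M) {χ ψ : K → ℂ} (hχ : IsIrrCharacter K χ) (hψ : IsIrrCharacter K ψ)
    (h : SameBlock M χ ψ) : Ov σ χ ψ := fun z hz => by
  have := isPrime_of_isPModular hM
  have h1 := h z
  rw [omega_cen _ (C.cen hz), omega_cen _ (C.cen hz)] at h1
  have h2 := cen_root hχ (C.cen hz)
  have h3 := cen_root hψ (C.cen hz)
  have h0 := (orderOf_pos z).ne'
  generalize χ z / χ 1 = a at *
  generalize ψ z / ψ 1 = b at *
  have hb : b ≠ 0 := fun e => by simp [e, h0] at h3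
  have h4 : MemLocalRing M b⁻¹ := memLocalRing_of_isIntegral
    (IsIntegral.of_pow (Nat.pos_of_ne_zero h0) (by rw [inv_pow, h3, inv_one]; exact isIntegral_one))
  have h5 := H700.PrinCrit.eq_one_of_sub_mem hM (z := a * b⁻¹) (C.reg hz) (by rw [mul_pow, inv_pow, h2, h3, inv_one, mul_one])
    (by
      have h6 := memLocalIdeal_mul_right h1 h4
      rwa [sub_mul, mul_inv_cancel₀ hb] at h6)
  exact (mul_inv_eq_one₀ hb).1 h5

/-! ### EXCL, UNIQ, CRIT -/

theorem mem_ker_of_rt {U : Subgroup K} (h : RegTriv p (U.map σ)) {y : K} (h1 : ∀ u ∈ U, u * y = y * u)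
    (h2 : ¬ p ∣ orderOf y) : y ∈ σ.ker :=
  h (σ y) (by
    rintro _ ⟨u, hu, rfl⟩
    exact Commute.map (h1 u hu) σ) fun h3 => h2 (h3.trans (orderOf_map_dvd σ y))

theorem Ce.dvd_map (C : Ce p σ) {U : Subgroup K} {d : ℕ} (h : p ^ d ∣ Nat.card U) : p ^ d ∣ Nat.card (U.map σ) := by
  rw [← card_mul_index (σ.comp U.subtype).ker, index_ker, MonoidHom.range_comp, range_subtype] at h
  refine (Nat.Coprime.pow_left d (hp.out.coprime_iff_not_dvd.2 fun h1 => C.zp (h1.trans ?_))).dvd_of_dvd_mul_left h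
  exact card_dvd_of_injective ((U.subtype.comp (Subgroup.subtype _)).codRestrict σ.ker fun z => z.2)
    fun a b e => Subtype.ext (Subtype.ext (congrArg (fun x : σ.ker => (x : K)) e))

theorem Ce.rt_of_reg (C : Ce p σ) {d : ℕ} (h : Reg p d S) {U : Subgroup K} (hU : p ^ d ∣ Nat.card U) :
    RegTriv p (U.map σ) := h.rt (C.dvd_map hU)

/-- **EXCL** : the defect group is a Sylow subgroup -/
theorem Ce.syl_of_rt (C : Ce p σ) (hM : IsPModular p M) (hB : IsPBlock M B) (hD : IsDefectGroup p M B D)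
    (h : RegTriv p (D.map σ)) : ∃ P : Sylow p K, (P : Subgroup K) = D := by
  obtain ⟨P, hP⟩ := (isPGroup_of_isDefectGroup hD).exists_le_sylow
  obtain ⟨x, hx, ⟨T, hT⟩, hPD⟩ := S0956.result p M hM B hB D hD P hP
  have hxk : x ∈ center K := C.cen (mem_ker_of_rt h (fun d hd => by
    rw [← hT] at hd
    obtain ⟨z, -, rfl⟩ := hd
    exact mem_centralizer_singleton_iff.1 z.2) hx)
  refine ⟨P, ?_⟩
  have h5 : (MulAut.conj x).toMonoidHom = MonoidHom.id K := by
    ext y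
    change x * y * x⁻¹ = y
    rw [← mem_center_iff.1 hxk y, mul_inv_cancel_right]
  rw [← hPD, h5, map_id, inf_idem]

theorem Ce.max_of_rt (C : Ce p σ) (hM : IsPModular p M) (hB : IsPBlock M B) (hD : IsDefectGroup p M B D)
    (h : RegTriv p (D.map σ)) : ∃ ψ ∈ B, ¬ p ∣ charDegree (ψ : K → ℂ) := by
  obtain ⟨P, rfl⟩ := C.syl_of_rt hM hB hD h
  exact S0953.exists_degree_of_isDefectGroup hM P hB hD

theorem top_of_not_dvd (hM : IsPModular p M) {χ : IrrCharacter K} (h : ¬ p ∣ charDegree (χ : K → ℂ)) :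
    Top p M (χ : K → ℂ) :=
  have := isPrime_of_isPModular hM
  ⟨χ, sameBlock_refl _, h⟩

theorem Top.of_same (hM : IsPModular p M) {χ ψ : K → ℂ} (h : SameBlock M χ ψ) (h' : Top p M ψ) : Top p M χ :=
  have := isPrime_of_isPModular hM
  let ⟨φ, h1, h2⟩ := h'
  ⟨φ, sameBlock_trans h h1, h2⟩

theorem Ce.same0 (C : Ce p σ) (hM : IsPModular p M) (hC : CP p S) {χ ψ : IrrCharacter K}
    (hχ : ¬ p ∣ charDegree (χ : K → ℂ)) (hψ : ¬ p ∣ charDegree (ψ : K → ℂ)) (h : Ov σ χ ψ) :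
    SameBlock M (χ : K → ℂ) ψ := by
  have := isPrime_of_isPModular hM
  have := Finite.of_surjective σ C.surj
  obtain ⟨U, hU, hr⟩ := hC
  obtain ⟨Q, hQ⟩ := hU.exists_le_sylow
  obtain ⟨P, rfl⟩ := Sylow.mapSurjective_surjective C.surj p Q
  intro g
  rw [centralChar, centralChar, mul_div_assoc, mul_div_assoc, ← mul_sub]
  by_cases hg : p ∣ (centralizer ({g} : Set K)).index
  · exact memLocalIdeal_mul_right ((memLocalIdeal_natCast_iff hM _).2 hg) (memLocalRing_sub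
      (Blocks.FullDefect.memLocalRing_div_one hM χ hχ g) (Blocks.FullDefect.memLocalRing_div_one hM ψ hψ g))
  · obtain ⟨y, hy, hyr, hc⟩ := Blocks.FullDefect.exists_regular_congr hM P hg
    have h1 := h y (mem_ker_of_rt (hr.mono hQ) (mem_centralizer_iff.1 hy) hyr)
    refine memLocalIdeal_mul_left (memLocalRing_natCast _) ?_
    have h2 := memLocalIdeal_sub (memLocalIdeal_mul_right (hc χ) (Blocks.FullDefect.memLocalRing_inv_one hM χ hχ))
      (memLocalIdeal_mul_right (hc ψ) (Blocks.FullDefect.memLocalRing_inv_one hM ψ hψ))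
    convert h2 using 1
    simp only [div_eq_mul_inv] at h1 ⊢
    linear_combination h1

/-- **UNIQ** : one block of maximal defect over each central character -/
theorem Ce.same (C : Ce p σ) (hM : IsPModular p M) (hC : CP p S) {χ ψ : IrrCharacter K} (hχ : Top p M (χ : K → ℂ))
    (hψ : Top p M (ψ : K → ℂ)) (h : Ov σ χ ψ) : SameBlock M (χ : K → ℂ) ψ := by
  have := isPrime_of_isPModular hM
  obtain ⟨χ', h1, h2⟩ := hχ
  obtain ⟨ψ', h3, h4⟩ := hψ
  exact sameBlock_trans h1 (sameBlock_trans (C.same0 hM hC h2 h4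
    ((C.ov hM χ.2 χ'.2 h1).symm.trans (h.trans (C.ov hM ψ.2 ψ'.2 h3)))) (sameBlock_symm h3))

theorem Ce.card_dvd (C : Ce p σ) : Nat.card S ∣ Nat.card K := card_dvd_of_surjective σ C.surj

/-- the defect of the block of `χ` -/
theorem exists_dg (hM : IsPModular p M) (χ : IrrCharacter K) {d : ℕ}
    (h : (charDegree (χ : K → ℂ)).factorization p + d ≤ (Nat.card K).factorization p) :
    ∃ E : Subgroup K, IsDefectGroup p M (blockOf M (χ : K → ℂ)) E ∧ p ^ d ∣ Nat.card E := by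
  have := isPrime_of_isPModular hM
  obtain ⟨E, hE⟩ := H400.BlockDefect.exists_defectGroup hM (isPBlock_blockOf χ)
  refine ⟨E, hE, ?_⟩
  rw [S0908.result p M hM _ (isPBlock_blockOf χ) E hE]
  refine pow_dvd_pow p ?_
  have h1 := Nat.sInf_le (s := (fun ψ : IrrCharacter K => (charDegree (ψ : K → ℂ)).factorization p) ''
    blockOf M (χ : K → ℂ)) ⟨χ, mem_blockOf_self χ, rfl⟩
  rw [blockDefect]
  simp only at h1
  omega

theorem Ce.top_of_rt (C : Ce p σ) (hM : IsPModular p M) {χ : IrrCharacter K} {E : Subgroup K}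
    (hE : IsDefectGroup p M (blockOf M (χ : K → ℂ)) E) (h : RegTriv p (E.map σ)) : Top p M (χ : K → ℂ) :=
  C.max_of_rt hM (isPBlock_blockOf χ) hE h

/-- **CRIT** -/
theorem Ce.top_of_crit (C : Ce p σ) (hM : IsPModular p M) {d : ℕ} (hR : Reg p d S) (χ : IrrCharacter K)
    (h : (charDegree (χ : K → ℂ)).factorization p + d ≤ (Nat.card S).factorization p) : Top p M (χ : K → ℂ) := by
  have := Finite.of_surjective σ C.surj
  obtain ⟨E, hE, h1⟩ := exists_dg hM χ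
    (h.trans ((Nat.factorization_le_iff_dvd Nat.card_pos.ne' Nat.card_pos.ne').2 C.card_dvd p))
  exact C.top_of_rt hM hE (C.rt_of_reg hR h1)

/-- **LINK** -/
theorem same_of_link (hM : IsPModular p M) {χ ψ : IrrCharacter K}
    (h : ∑ᶠ x ∈ {x : K | ¬ p ∣ orderOf x}, (χ : K → ℂ) x * conj ((ψ : K → ℂ) x) ≠ 0) : SameBlock M (χ : K → ℂ) ψ := by
  by_contra h1
  exact h (S0952.result p M hM χ ψ h1)

/-- **VAN** : a zero at a `p`-element -/
theorem dvd_of_van {χ : IrrCharacter K} {u : K} (hu : ∃ k : ℕ, orderOf u = p ^ k) (h : (χ : K → ℂ) u = 0) :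
    p ∣ charDegree (χ : K → ℂ) := by
  obtain ⟨M, hM⟩ := Blocks.ExistsModular.exists_isPModular hp.out
  have := isPrime_of_isPModular hM
  have h1 := CharactersDeep.ModCongr.memLocalIdeal_character_sub hM χ.2 u u (Blocks.PPart.isPPart_of_isPGroup hu)
  rwa [h, inv_mul_cancel, zero_sub, memLocalIdeal_neg_iff, irr_one_eq_charDegree χ.2, memLocalIdeal_natCast_iff hM] at h1

/-! ### Galois conjugates -/

/-- the Galois conjugate `g ↦ χ (g ^ m)` -/
def gal {m : ℕ} (hm : m.Coprime (Nat.card K)) (χ : IrrCharacter K) : IrrCharacter K :=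
  ⟨fun g => (χ : K → ℂ) (g ^ m), Characters.GaloisIrr.isIrr_pow hm χ.2⟩

theorem gal_apply {m : ℕ} (hm : m.Coprime (Nat.card K)) (χ : IrrCharacter K) (g : K) :
    (gal hm χ : K → ℂ) g = (χ : K → ℂ) (g ^ m) := rfl

theorem gal_deg {m : ℕ} (hm : m.Coprime (Nat.card K)) (χ : IrrCharacter K) :
    charDegree (gal hm χ : K → ℂ) = charDegree (χ : K → ℂ) := by
  rw [charDegree, gal_apply, one_pow, charDegree]

theorem omega_gal {m : ℕ} (hm : m.Coprime (Nat.card K)) (χ : IrrCharacter K) (g : K) :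
    centralChar (gal hm χ : K → ℂ) g = centralChar (χ : K → ℂ) (g ^ m) := by
  have h1 : centralizer ({g ^ m} : Set K) = centralizer {g} := by
    ext x
    rw [mem_centralizer_singleton_iff, mem_centralizer_singleton_iff]
    refine ⟨fun h => ?_, fun h => Commute.pow_right h m⟩
    obtain ⟨j, hj⟩ := (mem_zpowers_pow_iff (g := g) (k := m)).2 (hm.coprime_dvd_right (orderOf_dvd_natCard g))
    rw [← hj]
    exact Commute.zpow_right h j
  rw [centralChar, centralChar, gal_apply, gal_apply, one_pow, h1]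

theorem same_gal {m : ℕ} (hm : m.Coprime (Nat.card K)) {χ ψ : IrrCharacter K} (h : SameBlock M (χ : K → ℂ) ψ) :
    SameBlock M (gal hm χ : K → ℂ) (gal hm ψ) := fun g => by
  rw [omega_gal, omega_gal]
  exact h _

theorem Top.gal {m : ℕ} (hm : m.Coprime (Nat.card K)) {χ : IrrCharacter K} (h : Top p M (χ : K → ℂ)) :
    Top p M (gal hm χ : K → ℂ) :=
  let ⟨ψ, h1, h2⟩ := h
  ⟨T.gal hm ψ, same_gal hm h1, by rwa [gal_deg]⟩

/-- two faithful central characters of a cyclic kernel are Galois conjugate -/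
theorem exists_gal (hc : σ.ker ≤ center K) (hcyc : IsCyclic σ.ker) {χ ψ : IrrCharacter K}
    (hχ : ∀ z ∈ σ.ker, (χ : K → ℂ) z = (χ : K → ℂ) 1 → z = 1) (hψ : ∀ z ∈ σ.ker, (ψ : K → ℂ) z = (ψ : K → ℂ) 1 → z = 1) :
    ∃ (m : ℕ) (hm : m.Coprime (Nat.card K)), Ov σ (gal hm χ) ψ := by
  obtain ⟨z, hz⟩ := hcyc.exists_monoid_generator
  have key : ∀ φ : IrrCharacter K, (∀ z ∈ σ.ker, (φ : K → ℂ) z = (φ : K → ℂ) 1 → z = 1) →
      IsPrimitiveRoot ((φ : K → ℂ) z / (φ : K → ℂ) 1) (orderOf (z : K)) := fun φ hφ =>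
    ⟨cen_root φ.2 (hc z.2), fun l hl => orderOf_dvd_of_pow_eq_one (hφ _ (pow_mem z.2 l) (by
      rw [← cen_pow φ.2 (hc z.2)] at hl
      exact (div_eq_one_iff_eq (irr_one_ne_zero φ.2)).1 hl))⟩
  have h0 : NeZero (orderOf (z : K)) := ⟨(orderOf_pos _).ne'⟩
  have h0' : NeZero (Nat.card K) := ⟨Nat.card_pos.ne'⟩
  obtain ⟨i, -, h1, h2⟩ := ((key χ hχ).isPrimitiveRoot_iff).1 (key ψ hψ)
  obtain ⟨u, hu⟩ := ZMod.unitsMap_surjective (orderOf_dvd_natCard (z : K)) (ZMod.unitOfCoprime i h1)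
  have h3 : (u : ZMod (Nat.card K)).val ≡ i [MOD orderOf (z : K)] := by
    rw [← ZMod.natCast_eq_natCast_iff, ← ZMod.coe_unitOfCoprime i h1, ← hu, ZMod.unitsMap_val, ZMod.natCast_val]
  refine ⟨_, ZMod.val_coe_unit_coprime u, fun y hy => ?_⟩
  obtain ⟨j, hj⟩ := hz ⟨y, hy⟩
  obtain rfl : (z : K) ^ j = y := congrArg Subtype.val hj
  rw [gal_apply, gal_apply, one_pow, ← pow_mul, mul_comm, pow_mul, pow_eq_pow_iff_modEq.2 h3, ← pow_mul,
    cen_pow χ.2 (hc z.2), cen_pow ψ.2 (hc z.2), pow_mul, h2]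

/-! ### heights -/

/-- two different `p`-parts of degrees in one block -/
theorem not_XP_of_ne {χ ψ : IrrCharacter K} (hχ : χ ∈ B) (hψ : ψ ∈ B)
    (h : (charDegree (χ : K → ℂ)).factorization p ≠ (charDegree (ψ : K → ℂ)).factorization p) : ¬ XP p K B := fun H => by
  have h1 := H χ hχ
  have h2 := H ψ hψ
  have h3 := Nat.sInf_le (s := (fun ψ : IrrCharacter K => (charDegree (ψ : K → ℂ)).factorization p) '' B) ⟨χ, hχ, rfl⟩
  have h4 := Nat.sInf_le (s := (fun ψ : IrrCharacter K => (charDegree (ψ : K → ℂ)).factorization p) '' B) ⟨ψ, hψ, rfl⟩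
  rw [blockHeight] at h1 h2
  simp only at h3 h4
  omega

theorem not_XP_of {χ ψ : IrrCharacter K} (hχ : χ ∈ B) (hψ : ψ ∈ B) (h1 : p ∣ charDegree (χ : K → ℂ))
    (h2 : ¬ p ∣ charDegree (ψ : K → ℂ)) : ¬ XP p K B :=
  not_XP_of_ne hχ hψ (by
    rw [Nat.factorization_eq_zero_of_not_dvd h2]
    exact (hp.out.factorization_pos_of_dvd (charDegree_pos χ.2).ne' h1).ne')

theorem ht_of_not_dvd {χ : K → ℂ} (h : ¬ p ∣ charDegree χ) : blockHeight p B χ = 0 := by
  rw [blockHeight, Nat.factorization_eq_zero_of_not_dvd h, Nat.zero_sub]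

theorem not_XT_of {χ ψ : IrrCharacter K} (hχ : χ ∈ B) (hψ : ψ ∈ B) (h1 : ¬ p ∣ charDegree (χ : K → ℂ))
    (h2 : ¬ p ∣ charDegree (ψ : K → ℂ)) (h : charDegree (χ : K → ℂ) ≠ charDegree (ψ : K → ℂ)) : ¬ XT p K B :=
  fun H => h (H χ hχ ψ hψ (ht_of_not_dvd h1) (ht_of_not_dvd h2))

end T

open T

variable {p : ℕ} [hp : Fact p.Prime] {M : Ideal AlgInt} {K S : Type} [Group K] [Finite K] [Group S] {σ : K →* S}
  {B : Set (IrrCharacter K)} {D : Subgroup K}

theorem Hyp.ce (H : Hyp p M B D σ) : Ce p σ := ⟨H.surj, H.ker.le, H.ker ▸ H.zp⟩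

/-- EXCL by the orders of the centralisers -/
theorem Hyp.rt_of_reg (H : Hyp p M B D σ) (h : Reg p 3 S) : RegTriv p (D.map σ) := H.ce.rt_of_reg h H.cube_dvd

theorem Hyp.max (H : Hyp p M B D σ) (h : RegTriv p (D.map σ)) : ∃ ψ ∈ B, ¬ p ∣ charDegree (ψ : K → ℂ) :=
  H.ce.max_of_rt H.hM H.hB H.hD h

theorem Hyp.cp (H : Hyp p M B D σ) (h : RegTriv p (D.map σ)) : CP p S := ⟨_, H.pg.map σ, h⟩

/-- `B` is the block of maximal defect over its central character -/
theorem Hyp.mem_of_ov (H : Hyp p M B D σ) (h : RegTriv p (D.map σ)) {χ ψ : IrrCharacter K} (hψ : ψ ∈ B)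
    (ho : Ov σ χ ψ) (hT : Top p M (χ : K → ℂ)) : χ ∈ B := by
  have := isPrime_of_isPModular H.hM
  obtain ⟨φ, h1, h2⟩ := H.max h
  exact isPBlock_mem_of_sameBlock H.hB hψ (H.ce.same H.hM (H.cp h)
    ⟨φ, isPBlock_sameBlock H.hB hψ h1, h2⟩ hT ho.symm)

/-- a Galois conjugate of a faithful character in a block of maximal defect lies in `B` -/
theorem Hyp.mem_of_top (H : Hyp p M B D σ) (h : RegTriv p (D.map σ)) (χ : IrrCharacter K)
    (hf : ∀ z ∈ center K, (χ : K → ℂ) z = (χ : K → ℂ) 1 → z = 1) (hT : Top p M (χ : K → ℂ)) :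
    ∃ (m : ℕ) (hm : m.Coprime (Nat.card K)), gal hm χ ∈ B := by
  obtain ⟨ψ, h1, -⟩ := H.max h
  obtain ⟨m, hm, h2⟩ := exists_gal H.ker.le (H.ker ▸ H.cyc) (χ := χ) (ψ := ψ) (H.ker ▸ hf) (H.ker ▸ H.faith ψ h1)
  exact ⟨m, hm, H.mem_of_ov h h1 h2 (hT.gal hm)⟩

theorem Hyp.not_XP (H : Hyp p M B D σ) (h : RegTriv p (D.map σ)) (χ : IrrCharacter K)
    (hf : ∀ z ∈ center K, (χ : K → ℂ) z = (χ : K → ℂ) 1 → z = 1) (hT : Top p M (χ : K → ℂ))
    (hd : p ∣ charDegree (χ : K → ℂ)) : ¬ XP p K B := by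
  obtain ⟨ψ, h1, h2⟩ := H.max h
  obtain ⟨m, hm, h3⟩ := H.mem_of_top h χ hf hT
  exact not_XP_of h3 h1 (by rwa [gal_deg]) h2

theorem Hyp.not_XT (H : Hyp p M B D σ) (h : RegTriv p (D.map σ)) (χ ψ : IrrCharacter K)
    (hf : ∀ z ∈ center K, (χ : K → ℂ) z = (χ : K → ℂ) 1 → z = 1)
    (hf' : ∀ z ∈ center K, (ψ : K → ℂ) z = (ψ : K → ℂ) 1 → z = 1) (h1 : ¬ p ∣ charDegree (χ : K → ℂ))
    (h2 : ¬ p ∣ charDegree (ψ : K → ℂ)) (hne : charDegree (χ : K → ℂ) ≠ charDegree (ψ : K → ℂ)) : ¬ XT p K B := by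
  obtain ⟨m, hm, h3⟩ := H.mem_of_top h χ hf (top_of_not_dvd H.hM h1)
  obtain ⟨n, hn, h4⟩ := H.mem_of_top h ψ hf' (top_of_not_dvd H.hM h2)
  exact not_XT_of h3 h4 (by rwa [gal_deg]) (by rwa [gal_deg]) (by rwa [gal_deg, gal_deg])

/-- **EXCL + UNIQ + CRIT** -/
theorem Hyp.not_XP_crit (H : Hyp p M B D σ) {d : ℕ} (h3 : Reg p 3 S) (hR : Reg p d S) (χ : IrrCharacter K)
    (hf : ∀ z ∈ center K, (χ : K → ℂ) z = (χ : K → ℂ) 1 → z = 1) (h1 : p ∣ charDegree (χ : K → ℂ))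
    (h2 : (charDegree (χ : K → ℂ)).factorization p + d ≤ (Nat.card S).factorization p) : ¬ XP p K B :=
  H.not_XP (H.rt_of_reg h3) χ hf (H.ce.top_of_crit H.hM hR χ h2) h1

theorem Hyp.not_XT_crit (H : Hyp p M B D σ) (h3 : Reg p 3 S) (χ ψ : IrrCharacter K)
    (hf : ∀ z ∈ center K, (χ : K → ℂ) z = (χ : K → ℂ) 1 → z = 1)
    (hf' : ∀ z ∈ center K, (ψ : K → ℂ) z = (ψ : K → ℂ) 1 → z = 1) (h1 : ¬ p ∣ charDegree (χ : K → ℂ))
    (h2 : ¬ p ∣ charDegree (ψ : K → ℂ)) (hne : charDegree (χ : K → ℂ) ≠ charDegree (ψ : K → ℂ)) : ¬ XT p K B :=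
  H.not_XT (H.rt_of_reg h3) χ ψ hf hf' h1 h2 hne

/-- for a centre of prime order one element is enough -/
theorem T.faith_of_prime {r : ℕ} (hr : r.Prime) (hc : Nat.card (center K) = r) {χ : IrrCharacter K} {z : K}
    (hz : z ∈ center K) (h : (χ : K → ℂ) z ≠ (χ : K → ℂ) 1) :
    ∀ y ∈ center K, (χ : K → ℂ) y = (χ : K → ℂ) 1 → y = 1 := fun y hy h1 => by
  by_contra h2
  have := Fact.mk hr
  obtain ⟨j, hj⟩ := (mem_powers_iff_mem_zpowers (x := (⟨y, hy⟩ : center K)) (y := ⟨z, hz⟩)).2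
    (mem_zpowers_of_prime_card hc fun e => h2 (congrArg Subtype.val e))
  obtain rfl : y ^ j = z := congrArg Subtype.val hj
  have h3 := cen_pow χ.2 hy j
  rw [h1, div_self (irr_one_ne_zero χ.2), one_pow] at h3
  exact h ((div_eq_one_iff_eq (irr_one_ne_zero χ.2)).1 h3)

end Cfsg.Agent.BZ
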