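import Cfsg.Agent.BZ.T.Crit
import Cfsg.Agent.S0912
import Cfsg.Agent.S0917
import Cfsg.Agent.S0923

/-!
# BZ tools: the local data of a defect group, and the criterion CON (helper82)

* `LocB p D` : the local data of any defect group (`locB_of_block`, `comap`, `cent`, `quot`, `descend`);
* `RA p S`, `RC p S` : local data are `RegTriv` or abelian (cyclic); `At p y`, `AtC p y` : the same for `y ∈ Z(D)`;
  `Hyp.rt_of_ra` is EXCL;
* `exists_dg_of_ne` (second main theorem), `Ce.top_of_con` (CON).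
-/

set_option autoImplicit false
set_option linter.unusedSectionVars false

namespace Cfsg.Agent.BZ

open Cfsg Subgroup Cfsg.Agent.Blocks.Local Cfsg.Agent.Blocks.Basic Cfsg.Agent.BHZ.Spor
open scoped commutatorElement

namespace T

/-- the local data of a defect group -/
structure LocB (p : ℕ) {S : Type} [Group S] (D : Subgroup S) : Prop where
  pg : IsPGroup p D
  syl : ∃ g : S, ¬ p ∣ orderOf g ∧ (∀ d ∈ D, Commute d g) ∧
    ∀ P : Subgroup S, IsPGroup p P → D ≤ P → (∀ k ∈ P, Commute k g) → P ≤ D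
  core : ∀ U : Subgroup S, IsPGroup p U → (∀ x ∈ D, ∀ u ∈ U, x * u * x⁻¹ ∈ U) →
    (∀ x : S, (∀ d ∈ D, Commute d x) → ∀ u ∈ U, x * u * x⁻¹ ∈ U) → U ≤ D

/-- local data are Sylow subgroups or abelian -/
def RA (p : ℕ) (S : Type) [Group S] : Prop := ∀ D : Subgroup S, LocB p D → RegTriv p D ∨ IsMulCommutative D

/-- local data are Sylow subgroups or cyclic -/
def RC (p : ℕ) (S : Type) [Group S] : Prop := ∀ D : Subgroup S, LocB p D → RegTriv p D ∨ IsCyclic D

/-- the same for the local data with `y` in the centre -/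
def At (p : ℕ) {S : Type} [Group S] (y : S) : Prop :=
  ∀ D : Subgroup S, LocB p D → y ∈ D → (∀ d ∈ D, Commute y d) → RegTriv p D ∨ IsMulCommutative D

/-- the same for the local data with `y` in the centre -/
def AtC (p : ℕ) {S : Type} [Group S] (y : S) : Prop :=
  ∀ D : Subgroup S, LocB p D → y ∈ D → (∀ d ∈ D, Commute y d) → RegTriv p D ∨ IsCyclic D

section

variable {p : ℕ} [hp : Fact p.Prime] {S T : Type} [Group S] [Finite S] [Group T] {D : Subgroup S}

theorem locB_of_block {M : Ideal AlgInt} (hM : IsPModular p M) {B : Set (IrrCharacter S)} (hB : IsPBlock M B)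
    (hD : IsDefectGroup p M B D) : LocB p D := by
  have hDp := BHZ.Nil.isPGroup_defect hD
  obtain ⟨g, hg, hgD, hmax⟩ := BHZ.Nil.exists_reg_defect hM hB hD
  have hgD' : ∀ d ∈ D, Commute d g := fun d hd => mem_centralizer_iff.1 hgD d hd
  refine ⟨hDp, ⟨g, hg, hgD', fun P hP hle hc => (hmax P hP hle hc).le⟩, fun U hU h1 h2 => ?_⟩
  let C : Subgroup S := centralizer (D : Set S)
  have hW : (pCore p C).map C.subtype ≤ D := by
    have := Lib.Cores.pCore_characteristic (G := C) p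
    refine BHZ.Nil.defect_rad hM hB hD ((Lib.Cores.pCore_isPGroup p).map _) (fun n hn => ?_)
      ((map_subtype_le _).trans (Subgroup.centralizer_le_normalizer _))
    have hnC : n ∈ normalizer (C : Set S) := H644.mem_normalizer_centralizer hn
    refine mem_normalizer_fintype ?_
    rintro _ ⟨w, hw, rfl⟩
    have h3 := (characteristic_iff_map_le.1 this) (C.normalizerMonoidHom ⟨n, hnC⟩) ⟨w, hw, rfl⟩
    exact ⟨_, h3, rfl⟩
  have hUC : U ⊓ C ≤ D := by
    refine le_trans ?_ hW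
    have h3 : U.subgroupOf C ≤ pCore p C := Lib.Cores.le_pCore
      ⟨fun u hu c => h2 c (fun d hd => mem_centralizer_iff.1 c.2 d hd) u hu⟩ hU.comap_subtype
    have h4 := map_mono (f := C.subtype) h3
    rwa [subgroupOf_map_subtype] at h4
  have h5 := S0028.result p D (zpowers g) U hDp (by
      rw [Nat.card_zpowers]
      exact ((Nat.Prime.coprime_iff_not_dvd hp.out).2 hg).symm) hU
    (fun d hd => mem_centralizer_iff.2 fun w hw => commute_of_mem_zpowers (hgD' d hd).symm hw)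
    (fun d hd => mem_normalizer_fintype (h1 d hd))
    (zpowers_le.2 (mem_normalizer_fintype (h2 g hgD')))
    (fun u hu => mem_centralizer_iff.2 fun w hw => commute_of_mem_zpowers (hgD' u (hUC hu)).symm hw)
  have h6 := hmax (D ⊔ U) (isPGroup_sup hDp hU h1) le_sup_left
    (commute_of_mem_sup hgD' fun u hu => mem_centralizer_iff.1 (h5 (mem_zpowers g)) u hu)
  exact le_sup_right.trans h6.le

/-- passing to the centraliser of a subgroup `Y` of `Z(D)` (given as the range of `f`) -/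
theorem LocB.comap (h : LocB p D) (f : T →* S) (hf : Function.Injective f) {Y : Subgroup S} (hY : Y ≤ D)
    (hYD : ∀ y ∈ Y, ∀ d ∈ D, Commute y d) (hr : ∀ x : S, x ∈ f.range ↔ ∀ y ∈ Y, Commute y x) : LocB p (D.comap f) := by
  have hD : ∀ d ∈ D, d ∈ f.range := fun d hd => (hr d).2 fun y hy => hYD y hy d hd
  refine ⟨h.pg.comap_of_injective f hf, ?_, ?_⟩
  · obtain ⟨g, hg, hgD, hmax⟩ := h.syl
    obtain ⟨g, rfl⟩ := (hr g).2 fun y hy => hgD y (hY hy)
    refine ⟨g, by rwa [← orderOf_injective f hf], fun d hd => hf (by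
      rw [map_mul, map_mul]; exact hgD _ hd), fun P hP hle hc => ?_⟩
    refine map_le_iff_le_comap.1 (hmax _ (hP.map f) (fun d hd => ?_) ?_)
    · obtain ⟨d, rfl⟩ := hD d hd
      exact ⟨d, hle hd, rfl⟩
    · rintro _ ⟨k, hk, rfl⟩
      exact (hc k hk).map f
  · intro U hU h1 h2
    refine map_le_iff_le_comap.1 (h.core _ (hU.map f) (fun x hx => ?_) (fun x hx => ?_))
    · obtain ⟨x, rfl⟩ := hD x hx
      rintro _ ⟨u, hu, rfl⟩
      exact ⟨_, h1 x hx u hu, by simp⟩
    · obtain ⟨x, rfl⟩ := (hr x).2 fun y hy => hx y (hY hy)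
      rintro _ ⟨u, hu, rfl⟩
      exact ⟨_, h2 x (fun d hd => hf (by rw [map_mul, map_mul]; exact hx _ hd)) u hu, by simp⟩

theorem LocB.congr (h : LocB p D) (e : T ≃* S) : LocB p (D.comap e.toMonoidHom) :=
  h.comap e.toMonoidHom e.injective (Y := ⊥) bot_le (fun y hy d _ => by rw [mem_bot.1 hy]; exact Commute.one_left d)
    fun x => ⟨fun _ y hy => by rw [mem_bot.1 hy]; exact Commute.one_left x, fun _ => e.surjective x⟩

/-- passing to the centraliser of an element of `Z(D)` -/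
theorem LocB.cent (h : LocB p D) {y : S} (hy : y ∈ D) (hyD : ∀ d ∈ D, Commute y d) :
    LocB p (D.subgroupOf (centralizer ({y} : Set S))) :=
  h.comap (centralizer ({y} : Set S)).subtype (subtype_injective _) (Y := zpowers y) (zpowers_le.2 hy)
    (fun _ hw d hd => commute_of_mem_zpowers (hyD d hd) hw) fun x => by
      rw [range_subtype, mem_centralizer_singleton_iff]
      exact ⟨fun hx w hw => commute_of_mem_zpowers hx.symm hw, fun hx => (hx y (mem_zpowers y)).symm⟩

/-- passing to a central quotient -/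
theorem LocB.quot (h : LocB p D) (φ : S →* T) (hs : Function.Surjective φ) (hc : φ.ker ≤ center S) :
    LocB p (D.map φ) := by
  have hmap : ∀ (U : Subgroup T), IsPGroup p U → ∀ u ∈ U, ∃ a, φ a = u ∧ ∃ k : ℕ, a ^ p ^ k = 1 := by
    intro U hU u hu
    obtain ⟨k, hk⟩ := pelt_of_mem hU hu
    exact exists_p_lift hs hk
  have hconj : ∀ (x a : S), (∃ k : ℕ, a ^ p ^ k = 1) → ∃ k : ℕ, (x * a * x⁻¹) ^ p ^ k = 1 := by
    rintro x a ⟨k, hk⟩
    exact ⟨k, by rw [conj_pow, hk]; simp⟩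
  refine ⟨h.pg.map φ, ?_, ?_⟩
  · obtain ⟨g, hg, hgD, hmax⟩ := h.syl
    refine ⟨φ g, reg_map' hg, ?_, fun P hP hle hcP => ?_⟩
    · rintro _ ⟨d, hd, rfl⟩
      exact (hgD d hd).map φ
    · obtain ⟨P', hP', hPm⟩ := exists_plift (p := p) hc hP
      have h1 := hmax P' hP' (fun d hd => (hPm d).2 ⟨hle ⟨d, hd, rfl⟩, pelt_of_mem h.pg hd⟩) fun k hk => by
        obtain ⟨h2, j, hj⟩ := (hPm k).1 hk
        exact commute_p_reg hc (hcP _ h2) hj hg
      intro u hu
      obtain ⟨a, rfl, ha⟩ := hmap P hP u hu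
      exact ⟨a, h1 ((hPm a).2 ⟨hu, ha⟩), rfl⟩
  · intro U hU h1 h2
    obtain ⟨U', hU', hUm⟩ := exists_plift (p := p) hc hU
    have h3 := h.core U' hU' (fun x hx u hu => (hUm _).2 ⟨by
        rw [map_mul, map_mul, map_inv]
        exact h1 _ ⟨x, hx, rfl⟩ _ ((hUm u).1 hu).1, hconj x u ((hUm u).1 hu).2⟩)
      (fun x hx u hu => (hUm _).2 ⟨by
        rw [map_mul, map_mul, map_inv]
        refine h2 _ ?_ _ ((hUm u).1 hu).1
        rintro _ ⟨d, hd, rfl⟩
        exact (hx d hd).map φ, hconj x u ((hUm u).1 hu).2⟩)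
    intro u hu
    obtain ⟨a, rfl, ha⟩ := hmap U hU u hu
    exact ⟨a, h3 ((hUm a).2 ⟨hu, ha⟩), rfl⟩

theorem ker_le_center {y : S} (φ : centralizer ({y} : Set S) →* T) (hk : ∀ n, φ n = 1 → (n : S) ∈ zpowers y) :
    φ.ker ≤ center _ := fun n hn => mem_center_iff.2 fun g => Subtype.ext
  (commute_of_mem_zpowers (mem_centralizer_singleton_iff.1 g.2).symm (hk n hn)).symm

/-- `C(y) → C(y) / ⟨y⟩ ≅ T` for `y ∈ Z(D)` -/
theorem LocB.descend (h : LocB p D) {y : S} (hy : y ∈ D) (hyD : ∀ d ∈ D, Commute y d)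
    (φ : centralizer ({y} : Set S) →* T) (hs : Function.Surjective φ) (hk : ∀ n, φ n = 1 → (n : S) ∈ zpowers y) :
    LocB p ((D.subgroupOf (centralizer ({y} : Set S))).map φ) :=
  (h.cent hy hyD).quot φ hs (ker_le_center φ hk)

theorem LocB.rt_of_constr (h : LocB p D) {y : S} (hy : y ∈ D) (hyD : ∀ d ∈ D, Commute y d) (hc : Constr p y) :
    RegTriv p D := by
  obtain ⟨U, hU, hn, hr⟩ := hc
  exact hr.mono (h.core U hU (fun x hx => hn x (hyD x hx)) fun x hx => hn x (hx y hy))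

theorem LocB.syl_of_rt (h : LocB p D) (hr : RegTriv p D) (P : Subgroup S) (hP : IsPGroup p P) (hle : D ≤ P) : P ≤ D := by
  obtain ⟨g, hg, hgD, hmax⟩ := h.syl
  exact hmax P hP hle fun k _ => by rw [hr g hgD hg]; exact Commute.one_right k

theorem rt_of_descend {y : S} (hy : y ∈ D) (hp' : IsPGroup p D) (φ : centralizer ({y} : Set S) →* T)
    (hk : ∀ n, φ n = 1 → (n : S) ∈ zpowers y) (h : RegTriv p ((D.subgroupOf (centralizer ({y} : Set S))).map φ)) :
    RegTriv p D := fun r h1 h2 => by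
  have h3 := h (φ ⟨r, mem_centralizer_singleton_iff.2 (h1 y hy).symm⟩) (by
    rintro _ ⟨d, hd, rfl⟩
    exact Commute.map (Subtype.ext (h1 d hd).eq) φ) (reg_map' (by rwa [← orderOf_coe]))
  obtain ⟨k, hk'⟩ := pelt_of_mem hp' hy
  exact eq_one_of_reg h2 (pelt_of_mem_zpowers hk' (hk _ h3))

theorem rt_congr (e : T ≃* S) (h : RegTriv p (D.comap e.toMonoidHom)) : RegTriv p D := fun r h1 h2 => by
  obtain ⟨r, rfl⟩ := e.surjective r
  rw [h r (fun d hd => e.injective (by rw [map_mul, map_mul]; exact h1 _ hd)) (by rwa [MulEquiv.orderOf_eq] at h2), map_one]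

theorem comm_congr (e : T ≃* S) (h : IsMulCommutative (D.comap e.toMonoidHom)) : IsMulCommutative D :=
  comm_of_forall fun a ha b hb => by
    obtain ⟨a, rfl⟩ := e.surjective a
    obtain ⟨b, rfl⟩ := e.surjective b
    exact (forall_of_comm h a ha b hb).map e

theorem cyc_congr (e : T ≃* S) (h : IsCyclic (D.comap e.toMonoidHom)) : IsCyclic D := by
  obtain ⟨c, hc, h3⟩ := isCyclic_iff_le.1 h
  refine isCyclic_iff_le.2 ⟨e c, hc, fun d hd => ?_⟩
  obtain ⟨d, rfl⟩ := e.surjective d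
  obtain ⟨n, rfl⟩ := h3 d hd
  exact ⟨n, (map_zpow e c n).symm⟩

theorem RC.ra (h : RC p S) : RA p S := fun D hD => (h D hD).imp_right fun h => by
  have := h
  infer_instance

theorem RA.congr (h : RA p T) (e : T ≃* S) : RA p S := fun _ hD => (h _ (hD.congr e)).imp (rt_congr e) (comm_congr e)

theorem RC.congr (h : RC p T) (e : T ≃* S) : RC p S := fun _ hD => (h _ (hD.congr e)).imp (rt_congr e) (cyc_congr e)

theorem ra_of_reg (h : Reg p 3 S) : RA p S := fun D hD =>
  (em (p ^ 3 ∣ Nat.card D)).imp h.rt (comm_of_not_cube_dvd hD.pg)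

theorem rc_of_reg (h : Reg p 2 S) : RC p S := fun D hD =>
  (em (p ^ 2 ∣ Nat.card D)).imp h.rt (cyclic_of_not_sq_dvd hD.pg)

/-- it is enough to test the elements of prime order -/
theorem reg_of_prime {d : ℕ}
    (h : ∀ t : S, (orderOf t).Prime → orderOf t ≠ p → ¬ p ^ d ∣ Nat.card (centralizer ({t} : Set S))) : Reg p d S := by
  intro y h1 h2 h3
  obtain ⟨U, hU⟩ := Sylow.exists_subgroup_card_pow_prime p h3
  obtain ⟨t, h4, h5, h6⟩ := exists_prime_of_not_regTriv (p := p) (D := U.map (Subgroup.subtype _)) fun hr =>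
    h2 (hr y (by rintro _ ⟨u, -, rfl⟩; exact mem_centralizer_singleton_iff.1 u.2) h1)
  refine h t h4 h5 (dvd_trans ?_ (card_dvd_of_comm h6))
  rw [card_map_of_injective (subtype_injective _), hU]

theorem AtC.at {y : S} (h : AtC p y) : At p y := fun D hD h1 h2 => (h D hD h1 h2).imp_right fun h => by
  have := h
  infer_instance

theorem At.congr {y : T} (h : At p y) (e : T ≃* S) : At p (e y) := fun _ hD h1 h2 =>
  (h _ (hD.congr e) h1 fun d hd => e.injective (by rw [map_mul, map_mul]; exact h2 _ hd)).imp (rt_congr e) (comm_congr e)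

theorem AtC.congr {y : T} (h : AtC p y) (e : T ≃* S) : AtC p (e y) := fun _ hD h1 h2 =>
  (h _ (hD.congr e) h1 fun d hd => e.injective (by rw [map_mul, map_mul]; exact h2 _ hd)).imp (rt_congr e) (cyc_congr e)

theorem At.conj {y z : S} (h : At p y) (hz : IsConj y z) : At p z := by
  obtain ⟨c, rfl⟩ := isConj_iff.1 hz
  exact h.congr (MulAut.conj c)

theorem AtC.conj {y z : S} (h : AtC p y) (hz : IsConj y z) : AtC p z := by
  obtain ⟨c, rfl⟩ := isConj_iff.1 hz
  exact h.congr (MulAut.conj c)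

theorem At.of_zpowers {y z : S} (h : At p y) (hz : y ∈ zpowers z) : At p z := fun D hD h1 h2 =>
  h D hD (zpowers_le.2 h1 hz) fun d hd => commute_of_mem_zpowers (h2 d hd) hz

theorem AtC.of_zpowers {y z : S} (h : AtC p y) (hz : y ∈ zpowers z) : AtC p z := fun D hD h1 h2 =>
  h D hD (zpowers_le.2 h1 hz) fun d hd => commute_of_mem_zpowers (h2 d hd) hz

theorem atC_of_constr {y : S} (h : Constr p y) : AtC p y := fun _ hD h1 h2 => .inl (hD.rt_of_constr h1 h2 h)

theorem at_of_constr {y : S} (h : Constr p y) : At p y := (atC_of_constr h).at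

/-- `C(y) / ⟨y⟩` has the strong row -/
theorem at_of_descend {y : S} (φ : centralizer ({y} : Set S) →* T) (hs : Function.Surjective φ)
    (hk : ∀ n, φ n = 1 → (n : S) ∈ zpowers y) (hT : RC p T) : At p y := fun _ hD hy hyD =>
  (hT _ (hD.descend hy hyD φ hs hk)).imp (rt_of_descend hy hD.pg φ hk) fun h => comm_of_forall fun a ha b hb =>
    congrArg Subtype.val (forall_of_comm (comm_of_map_cyclic φ (ker_le_center φ hk) h)
      ⟨a, mem_centralizer_singleton_iff.2 (hyD a ha).symm⟩ ha ⟨b, mem_centralizer_singleton_iff.2 (hyD b hb).symm⟩ hb)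

theorem ra_of_at (h : ∀ y : S, orderOf y = p → y ∈ ⁅centralizer ({y} : Set S), centralizer ({y} : Set S)⁆ → At p y) :
    RA p S := fun D hD => by
  by_cases hna : IsMulCommutative D
  · exact .inr hna
  obtain ⟨y, hy, hyp, hyD⟩ := exists_deep hD.pg hna
  have hle : D ≤ centralizer ({y} : Set S) := fun d hd => mem_centralizer_singleton_iff.2 (hyD d hd).symm
  refine h y hyp (commutator_mono hle hle hy) D hD (commutator_le.2 (fun a ha b hb => ?_) hy) hyD
  rw [commutatorElement_def]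
  exact D.mul_mem (D.mul_mem (D.mul_mem ha hb) (D.inv_mem ha)) (D.inv_mem hb)

theorem rc_of_atC (h : ∀ y : S, orderOf y = p → AtC p y) : RC p S := fun D hD => by
  by_cases h0 : D = ⊥
  · subst h0
    exact .inr inferInstance
  obtain ⟨y, hy, hyp, hyD⟩ := exists_central hD.pg h0 le_rfl fun d hd u hu => D.mul_mem (D.mul_mem hd hu) (D.inv_mem hd)
  exact h y hyp D hD hy hyD

end

variable {p : ℕ} [hp : Fact p.Prime] {M : Ideal AlgInt} {K S : Type} [Group K] [Finite K] [Group S] {σ : K →* S}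

/-- the second main theorem: some block of `C(x)` induces the block of `χ` -/
theorem exists_ind (hM : IsPModular p M) (χ : IrrCharacter K) {x : K} (hx : ∃ j : ℕ, orderOf x = p ^ j)
    (s : centralizer ({x} : Set K)) (hs : ¬ p ∣ orderOf s) (h : (χ : K → ℂ) (x * s) ≠ 0) :
    ∃ b : Set (IrrCharacter (centralizer ({x} : Set K))), IsPBlock M b ∧
      IsInducedBlock M (centralizer ({x} : Set K)) b (blockOf M (χ : K → ℂ)) := by
  classical
  by_contra hcon
  push Not at hcon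
  have := isPrime_of_isPModular hM
  revert s
  set C := centralizer ({x} : Set K) with hC
  intro s hs h
  let _ := Fintype.ofFinite C
  have : Finite (IrrCharacter C) := Characters.Core.finite_irr
  let _ := Fintype.ofFinite (IrrCharacter C)
  obtain ⟨θ, hθ⟩ : ∃ θ : C → ℂ, θ = fun c : C => (χ : K → ℂ) (x * (c : K)) := ⟨_, rfl⟩
  have hcl : IsClassFunction C θ := by
    intro b a
    have h2 := irr_conj χ.2 (x * (b : K)) (a : K)
    have h4 : (a : K) * x = x * a := mem_centralizer_singleton_iff.1 a.2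
    rw [hθ]
    show (χ : K → ℂ) (x * (a * b * (a : K)⁻¹)) = (χ : K → ℂ) (x * (b : K))
    rw [← h2, ← mul_assoc (a : K), h4]
    simp only [mul_assoc]
  have h2 := congrFun (Characters.Core.classFunction_eq_sum hcl) s
  rw [Finset.sum_apply] at h2
  obtain ⟨F, hF⟩ : ∃ F : IrrCharacter C → ℂ, F = fun ψ : IrrCharacter C => classInner θ (ψ : C → ℂ) * (ψ : C → ℂ) s :=
    ⟨_, rfl⟩
  have hsum : θ s = ∑ ψ : IrrCharacter C, F ψ := by
    rw [h2, hF]
    rfl
  have hblk : ∀ ψ₀ : IrrCharacter C, ∑ ψ ∈ Finset.univ.filter (fun ψ : IrrCharacter C =>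
      blockOf M (ψ : C → ℂ) = blockOf M (ψ₀ : C → ℂ)), F ψ = 0 := by
    intro ψ₀
    have h3 : ∑ᶠ ψ ∈ blockOf M (ψ₀ : C → ℂ), F ψ = 0 := by
      rw [hF, hθ]
      exact S0923.result p M hM x hx (blockOf M (χ : K → ℂ)) (isPBlock_blockOf χ) χ
        (mem_blockOf_self χ) _ (isPBlock_blockOf ψ₀) (hcon _ (isPBlock_blockOf ψ₀)) s hs
    rw [← h3, finsum_mem_eq_finite_toFinset_sum _ (Set.toFinite _)]
    refine Finset.sum_congr ?_ fun _ _ => rfl
    ext ψ
    rw [Set.Finite.mem_toFinset, Finset.mem_filter]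
    exact ⟨fun hψ => hψ.2 ▸ mem_blockOf_self ψ,
      fun hψ => ⟨Finset.mem_univ _, (blockOf_eq_of_sameBlock (mem_blockOf.1 hψ)).symm⟩⟩
  refine h ((congrFun hθ s).symm.trans ?_)
  rw [hsum, ← Finset.sum_fiberwise_of_maps_to (s := Finset.univ) (t := Finset.univ.image
    (fun ψ : IrrCharacter C => blockOf M (ψ : C → ℂ))) (g := fun ψ : IrrCharacter C => blockOf M (ψ : C → ℂ))
    (fun ψ _ => Finset.mem_image_of_mem _ (Finset.mem_univ ψ))]
  refine Finset.sum_eq_zero fun b hb => ?_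
  obtain ⟨ψ₀, -, rfl⟩ := Finset.mem_image.1 hb
  exact hblk ψ₀

/-- a defect group which contains all normal `p`-subgroups of `C(x)` -/
theorem exists_dg_of_ne (hM : IsPModular p M) (χ : IrrCharacter K) {x s : K} (hx : ∃ j : ℕ, orderOf x = p ^ j)
    (hs : ¬ p ∣ orderOf s) (hc : Commute x s) (h : (χ : K → ℂ) (x * s) ≠ 0) :
    ∃ E : Subgroup K, IsDefectGroup p M (blockOf M (χ : K → ℂ)) E ∧ ∀ R : Subgroup K, IsPGroup p R →
      (∀ r ∈ R, Commute x r) → (∀ c, Commute x c → ∀ r ∈ R, c * r * c⁻¹ ∈ R) → R ≤ E := by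
  obtain ⟨b, hb, hind⟩ := exists_ind hM χ hx ⟨s, mem_centralizer_singleton_iff.2 hc.symm⟩ (by rwa [← orderOf_coe]) h
  obtain ⟨δ, hδ⟩ := H400.BlockDefect.exists_defectGroup hM hb
  obtain ⟨E, hE, hle⟩ := S0917.result p M hM _ b hb _ (isPBlock_blockOf χ) hind δ hδ
  refine ⟨E, hE, fun R hR h1 h2 r hr => hle ⟨⟨r, mem_centralizer_singleton_iff.2 (h1 r hr).symm⟩, ?_, rfl⟩⟩
  exact S0912.result p M hM b hb δ hδ (Lib.Cores.le_pCore (N := R.subgroupOf _)
    ⟨fun a ha c => h2 c (mem_centralizer_singleton_iff.1 c.2).symm _ ha⟩ hR.comap_subtype hr)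

/-- **CON** -/
theorem Ce.top_of_con (C : Ce p σ) (hM : IsPModular p M) (χ : IrrCharacter K) {x s : K}
    (hx : ∃ j : ℕ, orderOf x = p ^ j) (hs : ¬ p ∣ orderOf s) (hc : Commute x s) (h : (χ : K → ℂ) (x * s) ≠ 0)
    (hC : Constr p (σ x)) : Top p M (χ : K → ℂ) := by
  have := Finite.of_surjective σ C.surj
  obtain ⟨E, hE, h1⟩ := exists_dg_of_ne hM χ hx hs hc h
  obtain ⟨U, hU, hn, hr⟩ := hC
  obtain ⟨j, hj⟩ := hx
  have hj' : x ^ p ^ j = 1 := by rw [← hj, pow_orderOf_eq_one]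
  have hj2 : σ x ^ p ^ j = 1 := by rw [← map_pow, hj', map_one]
  have h2 : x ∈ E := h1 _ (isPGroup_zpowers hj') (fun r hr => (commute_of_mem_zpowers (Commute.refl x) hr).symm)
    (fun c hc r hr => by rwa [← (commute_of_mem_zpowers hc hr).eq, mul_inv_cancel_right]) (mem_zpowers x)
  obtain ⟨R, hR, hRm⟩ := exists_plift (p := p) C.cen (hU.to_inf_left (K := centralizer {σ x}))
  have h3 : R ≤ E := by
    refine h1 R hR (fun r hr => ?_) fun c hc r hr => ?_
    · have h4 : Commute (σ x) (σ r) := (mem_centralizer_singleton_iff.1 ((hRm r).1 hr).1.2).symm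
      exact commute_of_pows C.cen h4 (comm_pow_order_left C.cen h4 hj2) (pow_orderOf_eq_one _)
        (cop_of_reg (C.reg (map_comm_eq_one h4)) j)
    · obtain ⟨⟨h4, h5⟩, k, hk⟩ := (hRm r).1 hr
      refine (hRm _).2 ⟨?_, k, by rw [conj_pow, hk, mul_one, mul_inv_cancel]⟩
      rw [map_mul, map_mul, map_inv]
      have h6 : σ c ∈ centralizer {σ x} := mem_centralizer_singleton_iff.2 (hc.map σ).symm
      exact ⟨hn _ (hc.map σ) _ h4, Subgroup.mul_mem _ (Subgroup.mul_mem _ h6 h5) (Subgroup.inv_mem _ h6)⟩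
  refine C.top_of_rt hM hE fun g h4 h5 => hr g (fun u hu => ?_) h5
  have h6 : Commute (σ x) g := h4 _ ⟨x, h2, rfl⟩
  refine mem_centralizer_iff.1 (S0028.result p (zpowers (σ x)) (zpowers g) U (isPGroup_zpowers hj2) (by
      rw [Nat.card_zpowers]
      exact (hp.out.coprime_iff_not_dvd.2 h5).symm) hU
    (fun d hd => mem_centralizer_iff.2 fun w hw => commute_of_mem_zpowers (commute_of_mem_zpowers h6 hd).symm hw)
    (zpowers_le.2 (mem_normalizer_fintype (hn _ (Commute.refl _)))) (zpowers_le.2 (mem_normalizer_fintype (hn g h6)))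
    (fun u hu => mem_centralizer_iff.2 fun w hw => commute_of_mem_zpowers (Commute.symm ?_) hw) (mem_zpowers g)) u hu
  obtain ⟨k, hk⟩ := pelt_of_mem hU hu.1
  obtain ⟨a, rfl, ha⟩ := exists_p_lift C.surj hk
  exact h4 _ ⟨a, h3 ((hRm a).2 ⟨⟨hu.1, mem_centralizer_singleton_iff.2
    (mem_centralizer_iff.1 hu.2 _ (mem_zpowers _)).symm⟩, ha⟩), rfl⟩

end T

open T

variable {p : ℕ} [hp : Fact p.Prime] {M : Ideal AlgInt} {K S : Type} [Group K] [Finite K] [Group S] {σ : K →* S}
  {B : Set (IrrCharacter K)} {D : Subgroup K}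

theorem Hyp.locB (H : Hyp p M B D σ) : LocB p (D.map σ) := (locB_of_block H.hM H.hB H.hD).quot σ H.surj H.ker.le

theorem Hyp.nab_map (H : Hyp p M B D σ) : ¬ IsMulCommutative (D.map σ) := fun h =>
  H.nab (comm_of_map_comm H.pg σ H.ker.le (e := Nat.card σ.ker)
    (fun n hn => congrArg Subtype.val (pow_card_eq_one' (x := (⟨n, hn⟩ : σ.ker)))) H.ce.zp h)

/-- **EXCL** -/
theorem Hyp.rt_of_ra (H : Hyp p M B D σ) (h : RA p S) : RegTriv p (D.map σ) := (h _ H.locB).resolve_right H.nab_map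

/-- **EXCL + UNIQ + CON** -/
theorem Hyp.not_XP_con (H : Hyp p M B D σ) (h : RA p S) (χ : IrrCharacter K)
    (hf : ∀ z ∈ center K, (χ : K → ℂ) z = (χ : K → ℂ) 1 → z = 1) (h1 : p ∣ charDegree (χ : K → ℂ)) {x s : K}
    (hx : ∃ j : ℕ, orderOf x = p ^ j) (hs : ¬ p ∣ orderOf s) (hc : Commute x s) (h2 : (χ : K → ℂ) (x * s) ≠ 0)
    (hC : Constr p (σ x)) : ¬ XP p K B :=
  H.not_XP (H.rt_of_ra h) χ hf (H.ce.top_of_con H.hM χ hx hs hc h2 hC) h1

end Cfsg.Agent.BZ
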